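import Mathlib
import Groth.Agent.FanoGenLib.Lines
import Groth.Agent.GradedNormLib.Forms
import Groth.Agent.SMT.Dimension

/-! Uniform integrality certificates for families of cones cut down by linear forms. -/

set_option autoImplicit false
universe u

namespace Groth.Agent.FanoGenLib

open MvPolynomial

/-- Components of a product with a homogeneous factor. -/
lemma homogeneousComponent_mul_of_isHomogeneous {R : Type*} [CommRing R] {σ : Type*} {g : MvPolynomial σ R} {d : ℕ}
    (hg : g.IsHomogeneous d) (a : MvPolynomial σ R) (N : ℕ) :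
    homogeneousComponent N (a * g) = if d ≤ N then homogeneousComponent (N - d) a * g else 0 := by
  classical
  induction a using MvPolynomial.induction_on' with
  | monomial u c =>
    have h : (monomial u c * g).IsHomogeneous (u.degree + d) := (isHomogeneous_monomial c rfl).mul hg
    rw [homogeneousComponent_of_mem ((mem_homogeneousSubmodule _ _).mpr h),
      homogeneousComponent_of_mem ((mem_homogeneousSubmodule _ _).mpr (isHomogeneous_monomial c rfl))]
    by_cases h1 : N = u.degree + d
    · rw [if_pos h1, if_pos (by omega), if_pos (by omega)]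
    · rw [if_neg h1]
      by_cases h2 : d ≤ N
      · rw [if_pos h2, if_neg (by omega), zero_mul]
      · rw [if_neg h2]
  | add p q hp hq =>
    rw [add_mul, map_add, map_add, hp, hq]
    split_ifs <;> simp [add_mul]

lemma homogeneousComponent_mem_span {R : Type*} [CommRing R] {σ ι : Type*} [Fintype ι] (G : ι → MvPolynomial σ R)
    (dG : ι → ℕ) (hG : ∀ i, (G i).IsHomogeneous (dG i)) {f : MvPolynomial σ R} (hf : f ∈ Ideal.span (Set.range G))
    (N : ℕ) : homogeneousComponent N f ∈ Ideal.span (Set.range G) := by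
  obtain ⟨a, rfl⟩ := Submodule.mem_span_range_iff_exists_fun _ |>.mp hf
  rw [map_sum]
  refine Submodule.sum_mem _ fun i _ => ?_
  rw [smul_eq_mul, homogeneousComponent_mul_of_isHomogeneous (hG i)]
  split_ifs
  · exact Ideal.mul_mem_left _ _ (Ideal.subset_span ⟨i, rfl⟩)
  · exact Submodule.zero_mem _

variable {k : Type u} [Field k] {n : ℕ} {β : Type u} [Fintype β] {l : ℕ}
  (G : Fin l → MvPolynomial (Fin (n + 1)) (MvPolynomial β k))

/-- Specialization of the coefficients. -/
noncomputable abbrev spec (b : β → k) : MvPolynomial (Fin (n + 1)) (MvPolynomial β k) →+* MvPolynomial (Fin (n + 1)) k :=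
  MvPolynomial.map (eval b)

/-- The specialised ideal. -/
noncomputable abbrev coneIdeal (b : β → k) : Ideal (MvPolynomial (Fin (n + 1)) k) :=
  Ideal.span (Set.range fun i => spec b (G i))

/-- Lift of a polynomial to constant coefficients. -/
noncomputable abbrev lift0 (β : Type u) (p : MvPolynomial (Fin (n + 1)) k) :
    MvPolynomial (Fin (n + 1)) (MvPolynomial β k) :=
  MvPolynomial.map (C : k →+* MvPolynomial β k) p

lemma spec_lift0 (b : β → k) (p : MvPolynomial (Fin (n + 1)) k) : spec b (lift0 β p) = p := by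
  rw [spec, lift0, map_map, show (eval b).comp C = RingHom.id k from RingHom.ext fun a => by simp, map_id]

variable {r : ℕ} (L : Fin r → MvPolynomial (Fin (n + 1)) k) (N : ℕ)

/-- What can be written through the cone and the linear forms in degree `N + 1`. -/
def combos : Submodule (MvPolynomial β k) (MvPolynomial (Fin (n + 1)) (MvPolynomial β k)) where
  carrier := {p | ∃ B : Fin r → MvPolynomial (Fin (n + 1)) (MvPolynomial β k),
    (∀ i, (B i).IsHomogeneous N) ∧ p - ∑ i, B i * lift0 β (L i) ∈ Ideal.span (Set.range G)}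
  add_mem' := by
    rintro p p' ⟨B, hB, h⟩ ⟨B', hB', h'⟩
    refine ⟨fun i => B i + B' i, fun i => (hB i).add (hB' i), ?_⟩
    convert add_mem h h' using 1
    simp [add_mul, Finset.sum_add_distrib]
    ring
  zero_mem' := ⟨0, fun i => isHomogeneous_zero _ _ _, by simp⟩
  smul_mem' := by
    rintro c p ⟨B, hB, h⟩
    refine ⟨fun i => C c * B i, fun i => (hB i).C_mul c, ?_⟩
    convert Ideal.mul_mem_left (Ideal.span (Set.range G)) (C c) h using 1
    simp [smul_eq_C_mul, mul_sub, Finset.mul_sum, mul_assoc]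

/-- A certificate. -/
def Cert (δ : MvPolynomial β k) : Prop :=
  ∀ μ : Fin (n + 1) →₀ ℕ, μ.degree = N + 1 → δ • monomial μ (1 : MvPolynomial β k) ∈ combos G L N

/-- Certificates exist at every good parameter. -/
theorem exists_cert [Infinite k] (dG : Fin l → ℕ) (hG : ∀ i, (G i).IsHomogeneous (dG i)) (b : β → k) (r : ℕ)
    (hb : ringKrullDim (MvPolynomial (Fin (n + 1)) k ⧸ coneIdeal G b) ≤ (r : WithBot ℕ∞)) :
    ∃ (L : Fin r → MvPolynomial (Fin (n + 1)) k) (N : ℕ) (δ : MvPolynomial β k),
      (∀ i, (L i).IsHomogeneous 1) ∧ Cert G L N δ ∧ eval b δ ≠ 0 := by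
  classical
  have hGb : ∀ i, (spec b (G i)).IsHomogeneous (dG i) := fun i => (hG i).map _
  have hJ : (coneIdeal G b).IsHomogeneous (CohB1.polyGrading n k) := Ideal.homogeneous_span _ _ (by
    rintro _ ⟨i, rfl⟩
    exact ⟨dG i, (mem_homogeneousSubmodule _ _).mpr (hGb i)⟩)
  obtain ⟨L, hL, hrad⟩ := GradedNormLib.exists_linear_forms r _ hJ hb
  obtain ⟨N, hN⟩ := Ideal.exists_pow_le_of_le_radical_of_fg hrad
    (Submodule.fg_span (Set.finite_range _))
  let R := MvPolynomial β k
  let mon : {μ : Fin (n + 1) →₀ ℕ // μ.degree = N + 1} → MvPolynomial (Fin (n + 1)) R := fun μ => monomial μ.1 1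
  haveI : Finite {μ : Fin (n + 1) →₀ ℕ // μ.degree = N + 1} := inferInstanceAs (Finite (Mon n (N + 1)))
  let q := (combos G L N).mkQ
  let U : Submodule R (MvPolynomial (Fin (n + 1)) R ⧸ combos G L N) := Submodule.span R (Set.range (q ∘ mon))
  let m : Ideal R := RingHom.ker (eval b)
  have hUle : U ≤ m • U := by
    refine Submodule.span_le.mpr ?_
    rintro _ ⟨μ, rfl⟩
    have hmem : (monomial μ.1 1 : MvPolynomial (Fin (n + 1)) k) ∈ coneIdeal G b ⊔ Ideal.span (Set.range L) := by
      refine hN (Ideal.pow_le_pow_right (show N ≤ N + 1 by omega) ?_)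
      have h : ∀ ν : Fin (n + 1) →₀ ℕ, (monomial ν 1 : MvPolynomial (Fin (n + 1)) k) ∈
          Ideal.span (Set.range (X : Fin (n + 1) → MvPolynomial (Fin (n + 1)) k)) ^ ν.degree := by
        intro ν
        induction ν using Finsupp.induction_linear with
        | zero => simp
        | add ν ν' h h' =>
          rw [map_add, pow_add, show monomial (ν + ν') (1 : k) = monomial ν 1 * monomial ν' 1 by
            rw [monomial_mul, one_mul]]
          exact Ideal.mul_mem_mul h h'
        | single i a =>
          rw [← X_pow_eq_monomial, Finsupp.degree_single]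
          exact Ideal.pow_mem_pow (Ideal.subset_span (Set.mem_range_self i)) a
      simpa [μ.2] using h μ.1
    obtain ⟨f, hf, g, hg, hfg⟩ := Submodule.mem_sup.mp hmem
    obtain ⟨B, hB⟩ := Submodule.mem_span_range_iff_exists_fun _ |>.mp hg
    have hf' : f ∈ Ideal.map (spec b) (Ideal.span (Set.range G)) := by
      rw [Ideal.map_span, ← Set.range_comp]; exact hf
    obtain ⟨F, hF, hFf⟩ := (Ideal.mem_map_iff_of_surjective (spec b)
      fun p => ⟨lift0 β p, spec_lift0 b p⟩).mp hf'
    let B' : Fin r → MvPolynomial (Fin (n + 1)) R := fun i => lift0 β (homogeneousComponent N (B i))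
    have hB' : ∀ i, (B' i).IsHomogeneous N := fun i => (homogeneousComponent_isHomogeneous N (B i)).map _
    let E := mon μ - homogeneousComponent (N + 1) F - ∑ i, B' i * lift0 β (L i)
    have hE : E.IsHomogeneous (N + 1) := by
      refine (((isHomogeneous_monomial _ μ.2).sub (homogeneousComponent_isHomogeneous _ F)).sub ?_)
      exact IsHomogeneous.sum _ _ _ fun i _ => (hB' i).mul ((hL i).map _)
    have hEq : q (mon μ) = q E := by
      rw [← sub_eq_zero, ← map_sub, Submodule.mkQ_apply, Submodule.Quotient.mk_eq_zero]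
      refine ⟨B', hB', ?_⟩
      rw [show mon μ - E - ∑ i, B' i * lift0 β (L i) = homogeneousComponent (N + 1) F by simp only [E]; abel]
      exact homogeneousComponent_mem_span G dG hG hF _
    have hE0 : spec b E = 0 := by
      have h1 := congrArg (homogeneousComponent (N + 1)) hfg
      rw [map_add, ← hB, map_sum, homogeneousComponent_of_mem ((mem_homogeneousSubmodule _ _).mpr
        (isHomogeneous_monomial (1 : k) μ.2)), if_pos rfl] at h1
      have h2 : spec b (homogeneousComponent (N + 1) F) = homogeneousComponent (N + 1) f := by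
        rw [← hFf]
        ext ν
        simp [coeff_map, coeff_homogeneousComponent, apply_ite (eval b)]
      simp only [E, mon, map_sub, map_sum, map_mul, B', spec_lift0, h2, map_monomial, map_one]
      rw [sub_sub, sub_eq_zero, ← h1]
      congr 1
      exact Finset.sum_congr rfl fun i _ => by
        rw [smul_eq_mul, homogeneousComponent_mul_of_isHomogeneous (hL i), if_pos (by omega),
          Nat.add_sub_cancel]
    show q (mon μ) ∈ m • U
    rw [hEq, as_sum E, map_sum]
    refine Submodule.sum_mem _ fun ν hν => ?_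
    rw [show monomial ν (coeff ν E) = coeff ν E • monomial ν (1 : R) by rw [smul_monomial, smul_eq_mul, mul_one], map_smul]
    refine Submodule.smul_mem_smul ?_ (Submodule.subset_span ⟨⟨ν, ?_⟩, rfl⟩)
    · have := congrArg (coeff ν) hE0
      simpa [m, RingHom.mem_ker, coeff_map] using this
    · by_contra hne
      exact mem_support_iff.mp hν (hE.coeff_eq_zero hne)
  obtain ⟨δ, hδ, hδU⟩ := Submodule.exists_sub_one_mem_and_smul_eq_zero_of_fg_of_le_smul m U
    (Submodule.fg_span (Set.finite_range _)) hUle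
  refine ⟨L, N, δ, hL, fun μ hμ => ?_, ?_⟩
  · have := hδU _ (Submodule.subset_span ⟨⟨μ, hμ⟩, rfl⟩)
    rwa [Function.comp_apply, ← map_smul, Submodule.mkQ_apply, Submodule.Quotient.mk_eq_zero] at this
  · rw [RingHom.mem_ker, map_sub, map_one, sub_eq_zero] at hδ
    rw [hδ]
    exact one_ne_zero

variable {L N}

/-- The monic relations from a certificate. -/
theorem exists_monic_relation {δ : MvPolynomial β k} (hδ : Cert G L N δ) (j : Fin (n + 1)) :
    ∃ F : Polynomial (MvPolynomial (β ⊕ Fin r) k), F.Monic ∧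
      ∀ (Q : Type u) [CommRing Q] [Algebra k Q] (b : β → k) (y : Fin (n + 1) → Q),
        (∀ i, aeval y (spec b (G i)) = 0) →
        (F.map (aeval (Sum.elim (fun i => algebraMap k Q (b i)) (fun i => aeval y (L i))) :
          MvPolynomial (β ⊕ Fin r) k →ₐ[k] Q).toRingHom).eval (algebraMap k Q (eval b δ) * y j) = 0 := by
  classical
  let ι := {μ : Fin (n + 1) →₀ ℕ // μ.degree ≤ N}
  haveI : Finite ι := (Finsupp.finite_of_degree_le N).to_subtype
  letI : Fintype ι := Fintype.ofFinite ι
  let ren : MvPolynomial β k →ₐ[k] MvPolynomial (β ⊕ Fin r) k := rename Sum.inl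
  choose B hB hmem using fun μ : {μ : Fin (n + 1) →₀ ℕ // μ.degree = N + 1} => hδ μ.1 μ.2
  let M : Matrix ι ι (MvPolynomial (β ⊕ Fin r) k) := Matrix.of fun μ ν =>
    if h : (μ.1 + Finsupp.single j 1).degree ≤ N then (if ν = ⟨_, h⟩ then ren δ else 0)
    else ∑ i, ren (coeff ν.1 (B ⟨μ.1 + Finsupp.single j 1, by
      have := μ.2
      rw [map_add, Finsupp.degree_single] at h ⊢
      omega⟩ i)) * X (Sum.inr i)
  refine ⟨M.charpoly, Matrix.charpoly_monic M, fun Q _ _ b y hy => ?_⟩
  set φ : MvPolynomial (β ⊕ Fin r) k →ₐ[k] Q := aeval (Sum.elim (fun i => algebraMap k Q (b i)) (fun i => aeval y (L i))) with hφdef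
  have hren : ∀ p, φ (ren p) = algebraMap k Q (eval b p) := fun p => by
    rw [← aeval_eq_eval]
    exact AlgHom.congr_fun (algHom_ext (f := φ.comp ren) (g := (Algebra.ofId k Q).comp (aeval b)) fun i => by
      simp [φ, ren, Algebra.ofId_apply]) p
  let ψ : MvPolynomial (Fin (n + 1)) (MvPolynomial β k) →+* Q :=
    (aeval y : MvPolynomial (Fin (n + 1)) k →ₐ[k] Q).toRingHom.comp (spec b)
  have hψspan : ∀ p ∈ Ideal.span (Set.range G), ψ p = 0 := by
    intro p hp
    have : Ideal.span (Set.range G) ≤ RingHom.ker ψ := Ideal.span_le.mpr (by rintro _ ⟨i, rfl⟩; exact hy i)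
    exact this hp
  let u : ι → Q := fun μ => aeval y (monomial μ.1 (1 : k))
  have hrow : ∀ μ : ι, ∑ ν, φ (M μ ν) * u ν = algebraMap k Q (eval b δ) * y j * u μ := by
    intro μ
    have hmul : y j * u μ = aeval y (monomial (μ.1 + Finsupp.single j 1) (1 : k)) := by
      rw [show monomial (μ.1 + Finsupp.single j 1) (1 : k) = monomial μ.1 1 * X j by
        rw [X, monomial_mul, one_mul], map_mul, aeval_X, mul_comm]
    rw [mul_assoc, hmul]
    simp only [M, Matrix.of_apply]
    split_ifs with h
    · rw [Finset.sum_eq_single (⟨_, h⟩ : ι) (fun ν _ hν => by rw [if_neg hν, map_zero, zero_mul])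
        (fun hh => absurd (Finset.mem_univ _) hh), if_pos rfl, hren]
    · set μ' : {μ : Fin (n + 1) →₀ ℕ // μ.degree = N + 1} := ⟨μ.1 + Finsupp.single j 1, by
        have := μ.2
        rw [map_add, Finsupp.degree_single] at h ⊢
        omega⟩
      have h0 := hψspan _ (hmem μ')
      rw [map_sub, sub_eq_zero, map_sum] at h0
      have h1 : ψ (δ • monomial μ'.1 1) = algebraMap k Q (eval b δ) * aeval y (monomial μ'.1 (1 : k)) := by
        rw [smul_monomial, smul_eq_mul, mul_one]
        simp [ψ, spec, aeval_monomial]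
      rw [h1] at h0
      rw [h0]
      simp only [map_sum, map_mul, hren, Finset.sum_mul]
      rw [Finset.sum_comm]
      refine Finset.sum_congr rfl fun i _ => ?_
      have hφX : φ (X (Sum.inr i)) = aeval y (L i) := by simp [φ]
      have hψL : ψ (lift0 β (L i)) = aeval y (L i) := by
        show aeval y (spec b (lift0 β (L i))) = _
        rw [spec_lift0]
      have hψB : ψ (B μ' i) = ∑ ν : ι, algebraMap k Q (eval b (coeff ν.1 (B μ' i))) * u ν := by
        show aeval y (spec b (B μ' i)) = _
        conv_lhs => rw [as_sum (B μ' i), map_sum, map_sum]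
        refine (Finset.sum_bij_ne_zero (fun ν hν _ => (⟨ν, ?_⟩ : ι)) (by simp) (fun _ _ _ _ _ _ h => congrArg Subtype.val h) ?_ ?_)
        · by_contra hdeg
          exact mem_support_iff.mp hν ((hB μ' i).coeff_eq_zero (by omega))
        · intro ν _ hν
          refine ⟨ν.1, mem_support_iff.mpr fun h => hν (by simp [h]), ?_, rfl⟩
          simpa [spec, u, aeval_monomial] using hν
        · intro ν _ _
          simp [spec, u, aeval_monomial]
      rw [hψL, hψB, Finset.sum_mul]
      exact Finset.sum_congr rfl fun ν _ => by rw [hφX]; ring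
  let t := algebraMap k Q (eval b δ) * y j
  let T : Matrix ι ι Q := Matrix.scalar ι t - M.map φ
  have hTu : T.mulVec u = 0 := funext fun μ => by
    simp only [T, Matrix.sub_mulVec, Matrix.scalar_apply, Pi.sub_apply, Matrix.mulVec_diagonal, Pi.zero_apply]
    rw [sub_eq_zero]
    exact (hrow μ).symm
  have hdet : T.det = 0 := by
    have h := congrArg (T.adjugate.mulVec) hTu
    rw [Matrix.mulVec_mulVec, Matrix.adjugate_mul, Matrix.smul_mulVec, Matrix.one_mulVec, Matrix.mulVec_zero] at h
    have h2 := congrFun h ⟨0, by simp⟩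
    simpa [u] using h2
  rw [← Matrix.charpoly_map, Matrix.eval_charpoly]
  exact hdet

/-- A cone over which the linear forms are finite and of full dimension maps onto affine space. -/
theorem exists_point_over [IsAlgClosed k] {δ : MvPolynomial β k} (hδ : Cert G L N δ) (b : β → k) (hb : eval b δ ≠ 0)
    (g : MvPolynomial (Fin (n + 1)) k)
    (hdim : (r : WithBot ℕ∞) ≤ ringKrullDim (MvPolynomial (Fin (n + 1)) k ⧸ (coneIdeal G b ⊔ Ideal.span {g})))
    (a : Fin r → k) :
    ∃ y : Fin (n + 1) → k, (∀ i, eval y (spec b (G i)) = 0) ∧ eval y g = 0 ∧ ∀ i, eval y (L i) = a i := by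
  classical
  set J := coneIdeal G b ⊔ Ideal.span {g} with hJ
  let φ : MvPolynomial (Fin r) k →ₐ[k] (MvPolynomial (Fin (n + 1)) k ⧸ J) := aeval fun i => Ideal.Quotient.mk J (L i)
  have hint : φ.toRingHom.IsIntegral := by
    letI : Algebra (MvPolynomial (Fin r) k) (MvPolynomial (Fin (n + 1)) k ⧸ J) := φ.toRingHom.toAlgebra
    have hX : ∀ j, IsIntegral (MvPolynomial (Fin r) k) (Ideal.Quotient.mk J (X j) : (MvPolynomial (Fin (n + 1)) k ⧸ J)) := by
      intro j
      obtain ⟨F, hF, hroot⟩ := exists_monic_relation G hδ j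
      let y : Fin (n + 1) → (MvPolynomial (Fin (n + 1)) k ⧸ J) := fun i => Ideal.Quotient.mk J (X i)
      have hy : ∀ p, aeval y p = Ideal.Quotient.mk J p := fun p =>
        AlgHom.congr_fun (algHom_ext (f := aeval y) (g := Ideal.Quotient.mkₐ k J) fun i => by simp [y]) p
      have h := hroot (MvPolynomial (Fin (n + 1)) k ⧸ J) b y fun i => by
        rw [hy, Ideal.Quotient.eq_zero_iff_mem]
        exact Submodule.mem_sup_left (Ideal.subset_span ⟨i, rfl⟩)
      let χ : MvPolynomial (β ⊕ Fin r) k →ₐ[k] MvPolynomial (Fin r) k :=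
        aeval (Sum.elim (fun i => C (b i)) X)
      have hi : IsIntegral (MvPolynomial (Fin r) k) (algebraMap k (MvPolynomial (Fin (n + 1)) k ⧸ J) (eval b δ) * y j) := by
        refine ⟨F.map χ.toRingHom, hF.map _, ?_⟩
        rw [← Polynomial.eval_map, Polynomial.map_map]
        refine Eq.trans ?_ h
        congr 2
        exact MvPolynomial.ringHom_ext (fun c => by simp [χ, φ, RingHom.algebraMap_toAlgebra])
          (fun i => by cases i <;> simp [χ, φ, hy, RingHom.algebraMap_toAlgebra])
      have hc : IsIntegral (MvPolynomial (Fin r) k) (algebraMap k (MvPolynomial (Fin (n + 1)) k ⧸ J) (eval b δ)⁻¹) := by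
        have : algebraMap k (MvPolynomial (Fin (n + 1)) k ⧸ J) (eval b δ)⁻¹ = φ (C (eval b δ)⁻¹) := by simp [φ]
        rw [this]
        exact isIntegral_algebraMap
      have := hc.mul hi
      rwa [← mul_assoc, ← map_mul, inv_mul_cancel₀ hb, map_one, one_mul] at this
    intro z
    obtain ⟨p, rfl⟩ := Ideal.Quotient.mk_surjective z
    induction p using MvPolynomial.induction_on with
    | C c =>
      show IsIntegral (MvPolynomial (Fin r) k) (Ideal.Quotient.mk J (C c) : (MvPolynomial (Fin (n + 1)) k ⧸ J))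
      rw [show (Ideal.Quotient.mk J (C c) : (MvPolynomial (Fin (n + 1)) k ⧸ J)) = φ (C c) by simp [φ]; rfl]
      exact isIntegral_algebraMap
    | add p q hp hq => rw [map_add]; exact IsIntegral.add hp hq
    | mul_X p i hp => rw [map_mul]; exact IsIntegral.mul hp (hX i)
  have hker : RingHom.ker φ.toRingHom = ⊥ := by
    refine eq_bot_iff.mpr fun f hf => by_contra fun hne => ?_
    have hne' : f ≠ 0 := fun h => hne (h ▸ Submodule.zero_mem _)
    let ψ : MvPolynomial (Fin r) k ⧸ Ideal.span {f} →+* (MvPolynomial (Fin (n + 1)) k ⧸ J) := Ideal.Quotient.lift _ φ.toRingHom fun p hp =>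
      (Ideal.span_le.mpr (Set.singleton_subset_iff.mpr hf) : Ideal.span {f} ≤ RingHom.ker φ.toRingHom) hp
    letI : Algebra (MvPolynomial (Fin r) k ⧸ Ideal.span {f}) (MvPolynomial (Fin (n + 1)) k ⧸ J) := ψ.toAlgebra
    haveI : Algebra.IsIntegral (MvPolynomial (Fin r) k ⧸ Ideal.span {f}) (MvPolynomial (Fin (n + 1)) k ⧸ J) :=
      ⟨RingHom.IsIntegral.tower_top (Ideal.Quotient.mk (Ideal.span {f})) ψ
        (by rwa [show ψ.comp (Ideal.Quotient.mk (Ideal.span {f})) = φ.toRingHom from Ideal.Quotient.lift_comp_mk _ _ _])⟩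
    have h1 := hdim.trans (SMT.ringKrullDim_le_of_isIntegral (P := MvPolynomial (Fin r) k ⧸ Ideal.span {f}) (B := (MvPolynomial (Fin (n + 1)) k ⧸ J)))
    have h2 := (add_le_add h1 (le_refl (1 : WithBot ℕ∞))).trans
      (ringKrullDim_quotient_succ_le_of_nonZeroDivisor (mem_nonZeroDivisors_of_ne_zero hne'))
    rw [MvPolynomial.ringKrullDim_of_isNoetherianRing, ringKrullDim_eq_zero_of_field, zero_add, Nat.card_fin] at h2
    have : r + 1 ≤ r := by exact_mod_cast h2
    omega
  let ma : Ideal (MvPolynomial (Fin r) k) := vanishingIdeal k {a}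
  haveI : ma.IsMaximal := isMaximal_iff_eq_vanishingIdeal_singleton.mpr ⟨a, rfl⟩
  letI : Algebra (MvPolynomial (Fin r) k) (MvPolynomial (Fin (n + 1)) k ⧸ J) := φ.toRingHom.toAlgebra
  haveI : Algebra.IsIntegral (MvPolynomial (Fin r) k) (MvPolynomial (Fin (n + 1)) k ⧸ J) := ⟨hint⟩
  obtain ⟨P, hPmax, hPa⟩ := Ideal.exists_ideal_over_maximal_of_isIntegral (S := (MvPolynomial (Fin (n + 1)) k ⧸ J)) ma
    (by rw [RingHom.algebraMap_toAlgebra, hker]; exact bot_le)
  haveI : (P.comap (Ideal.Quotient.mk J)).IsMaximal :=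
    Ideal.comap_isMaximal_of_surjective _ Ideal.Quotient.mk_surjective
  obtain ⟨y, hy⟩ := isMaximal_iff_eq_vanishingIdeal_singleton.mp ‹(P.comap (Ideal.Quotient.mk J)).IsMaximal›
  have hJy : ∀ p ∈ J, eval y p = 0 := fun p hp => by
    have : p ∈ P.comap (Ideal.Quotient.mk J) := by
      rw [Ideal.mem_comap, Ideal.Quotient.eq_zero_iff_mem.mpr hp]; exact P.zero_mem
    rw [hy] at this
    simpa [aeval_eq_eval] using this
  refine ⟨y, fun i => hJy _ (Submodule.mem_sup_left (Ideal.subset_span ⟨i, rfl⟩)),
    hJy _ (Submodule.mem_sup_right (Ideal.mem_span_singleton_self g)), fun i => ?_⟩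
  have hmem : X i - C (a i) ∈ ma := by simp [ma, aeval_eq_eval]
  rw [← hPa, Ideal.mem_comap] at hmem
  have h2 : (L i - C (a i)) ∈ P.comap (Ideal.Quotient.mk J) := by
    rw [Ideal.mem_comap]
    convert hmem using 1
    simp [RingHom.algebraMap_toAlgebra, φ]
    rfl
  rw [hy] at h2
  simpa [aeval_eq_eval, sub_eq_zero] using h2

end Groth.Agent.FanoGenLib
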