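import Mathlib
import Groth.Prelude.Def_W4c2ratcurvhypCodim
import Groth.Agent.CILib.Dim
import Groth.Agent.DimFormulaLib.LocalDim

/-! Dimension of a set of points through algebraic relations between coordinates. -/

set_option autoImplicit false
universe u

namespace Groth.Agent.FanoGenLib

open MvPolynomial

variable {k : Type u} [Field k]

/-- Any `e + 1` coordinates are algebraically dependent on `D`. -/
def DimLE {τ : Type*} (D : Set (τ → k)) (e : ℕ) : Prop :=
  ∀ s : Fin (e + 1) → τ, ∃ Q : MvPolynomial (Fin (e + 1)) k, Q ≠ 0 ∧ ∀ v ∈ D, eval (v ∘ s) Q = 0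

lemma DimLE.mono {τ : Type*} {D D' : Set (τ → k)} {e : ℕ} (h : DimLE D e) (hs : D' ⊆ D) : DimLE D' e := fun s => by
  obtain ⟨Q, hQ, hQ0⟩ := h s
  exact ⟨Q, hQ, fun v hv => hQ0 v (hs hv)⟩

lemma DimLE.iUnion {τ : Type*} {ι : Type*} [Fintype ι] {D : ι → Set (τ → k)} {e : ℕ} (h : ∀ i, DimLE (D i) e) :
    DimLE (⋃ i, D i) e := fun s => by
  choose Q hQ hQ0 using fun i => h i s
  refine ⟨∏ i, Q i, Finset.prod_ne_zero_iff.mpr fun i _ => hQ i, fun v hv => ?_⟩
  obtain ⟨i, hi⟩ := Set.mem_iUnion.mp hv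
  rw [map_prod, Finset.prod_eq_zero (Finset.mem_univ i) (hQ0 i v hi)]

/-- Adjoining free coordinates. -/
lemma DimLE.prod {τ α : Type*} [Fintype α] {D : Set (τ → k)} {e a : ℕ} (h : DimLE D e) (ha : Fintype.card α ≤ a) :
    DimLE {v : α ⊕ τ → k | v ∘ Sum.inr ∈ D} (a + e) := by
  classical
  intro s
  by_cases hinj : Function.Injective s
  · let J := {i : Fin (a + e + 1) // (s i).isRight}
    have hJ : e + 1 ≤ Fintype.card J := by
      have h1 : Fintype.card {i : Fin (a + e + 1) // ¬ (s i).isRight} ≤ Fintype.card α := by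
        refine Fintype.card_le_of_injective (fun i => (s i.1).getLeft (by simpa using i.2)) fun i i' hii' => ?_
        have h2 : (Sum.inl _ : α ⊕ τ) = Sum.inl _ := congrArg Sum.inl hii'
        rw [Sum.inl_getLeft, Sum.inl_getLeft] at h2
        exact Subtype.ext (hinj h2)
      rw [Fintype.card_subtype_compl, Fintype.card_fin] at h1
      have h2 := Fintype.card_subtype_le fun i : Fin (a + e + 1) => (s i).isRight = true
      rw [Fintype.card_fin] at h2
      show e + 1 ≤ Fintype.card {i : Fin (a + e + 1) // (s i).isRight}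
      omega
    obtain ⟨g⟩ := Function.Embedding.nonempty_of_card_le (α := Fin (e + 1)) (β := J) (by simpa using hJ)
    obtain ⟨Q, hQ, hQ0⟩ := h fun i => (s (g i).1).getRight (g i).2
    refine ⟨rename (fun i => (g i).1) Q,
      (map_ne_zero_iff _ (rename_injective _ (Subtype.val_injective.comp g.injective))).mpr hQ, fun v hv => ?_⟩
    rw [eval_rename, ← hQ0 _ hv]
    exact congrArg (fun f => eval f Q) (funext fun i => congrArg v (Sum.inr_getRight _ _).symm)
  · simp only [Function.Injective, not_forall] at hinj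
    obtain ⟨i, j, hij, hne⟩ := hinj
    refine ⟨X i - X j, sub_ne_zero.mpr fun h => hne (X_injective h), fun v _ => ?_⟩
    simp [hij]

/-- Polynomials vanishing on `D`. -/
abbrev vanish {τ : Type*} (D : Set (τ → k)) : Ideal (MvPolynomial τ k) := vanishingIdeal k D

lemma mem_vanish {τ : Type*} {D : Set (τ → k)} {p : MvPolynomial τ k} : p ∈ vanish D ↔ ∀ v ∈ D, eval v p = 0 := by
  simp [vanish, mem_vanishingIdeal_iff, aeval_eq_eval]

lemma vanish_isRadical {τ : Type*} (D : Set (τ → k)) : (vanish D).IsRadical := by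
  rintro p ⟨n, hn⟩
  rw [mem_vanish] at hn ⊢
  exact fun v hv => by
    have := hn v hv
    rw [map_pow] at this
    exact eq_zero_of_pow_eq_zero this

/-- A polynomial without zeros on `D` lies in no minimal prime of the vanishing ideal. -/
lemma notMem_of_eval_ne_zero {τ : Type*} {D : Set (τ → k)} {P : Ideal (MvPolynomial τ k)}
    (hP : P ∈ (vanish D).minimalPrimes) {q : MvPolynomial τ k} (hq : ∀ v ∈ D, eval v q ≠ 0) : q ∉ P := fun hmem => by
  obtain ⟨y, hy, hqy⟩ := Ideal.exists_mul_mem_of_mem_minimalPrimes hP hmem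
  refine hy (mem_vanish.mpr fun v hv => ?_)
  have h := mem_vanish.mp hqy v hv
  rw [map_mul] at h
  exact (mul_eq_zero.mp h).resolve_left (hq v hv)

variable {τ : Type u} [Fintype τ] {D : Set (τ → k)} {e : ℕ}

lemma trdeg_le_of_algebraic (P : Ideal (MvPolynomial τ k)) [P.IsPrime] {ι : Type u} [Fintype ι]
    (y : ι → MvPolynomial τ k ⧸ P)
    (h : ∀ t, IsAlgebraic (Algebra.adjoin k (Set.range y)) (Ideal.Quotient.mk P (X t))) :
    Algebra.trdeg k (MvPolynomial τ k ⧸ P) ≤ (Fintype.card ι : Cardinal) := by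
  classical
  haveI : IsDomain (MvPolynomial τ k ⧸ P) := Ideal.Quotient.isDomain P
  let A := Algebra.adjoin k (Set.range y)
  let B := Subalgebra.algebraicClosure A (MvPolynomial τ k ⧸ P)
  haveI : Algebra.IsAlgebraic A (MvPolynomial τ k ⧸ P) := ⟨fun z => by
    obtain ⟨p, rfl⟩ := Ideal.Quotient.mk_surjective z
    show Ideal.Quotient.mk P p ∈ B
    induction p using MvPolynomial.induction_on with
    | C a =>
      rw [show (Ideal.Quotient.mk P (C a)) = algebraMap A _ (algebraMap k A a) from rfl]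
      exact B.algebraMap_mem _
    | add p q hp hq => rw [map_add]; exact add_mem hp hq
    | mul_X p t hp => rw [map_mul]; exact mul_mem hp (h t)⟩
  obtain ⟨t, hts, ht⟩ := exists_isTranscendenceBasis_subset (R := k) (A := MvPolynomial τ k ⧸ P) (Set.range y)
  rw [← ht.cardinalMk_eq_trdeg]
  refine (Cardinal.mk_le_mk_of_subset hts).trans (Cardinal.mk_range_le.trans ?_)
  rw [Cardinal.mk_fintype]

/-- Dimension bounded by relations over base coordinates with non-vanishing leading coefficients. -/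
theorem dimLE_of_relations {ι : Type u} [Fintype ι] (b : ι → MvPolynomial τ k)
    (h : ∀ t : τ, ∃ (P : Polynomial (MvPolynomial ι k)) (K : ℕ),
      (∀ v ∈ D, eval v (aeval b (P.coeff K)) ≠ 0) ∧
      ∀ v ∈ D, (P.map (eval fun i => eval v (b i))).eval (v t) = 0) :
    ∀ P ∈ (vanish D).minimalPrimes, Algebra.trdeg k (MvPolynomial τ k ⧸ P) ≤ (Fintype.card ι : Cardinal) := by
  intro P hP
  haveI : P.IsPrime := hP.1.1
  refine trdeg_le_of_algebraic P (fun i => Ideal.Quotient.mk P (b i)) fun t => ?_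
  obtain ⟨F, K, hK, hF⟩ := h t
  let y : ι → MvPolynomial τ k ⧸ P := fun i => Ideal.Quotient.mk P (b i)
  let φ : MvPolynomial ι k →ₐ[k] Algebra.adjoin k (Set.range y) :=
    aeval fun i => (⟨y i, Algebra.subset_adjoin ⟨i, rfl⟩⟩ : Algebra.adjoin k (Set.range y))
  have hφ : ∀ q, ((φ q : Algebra.adjoin k (Set.range y)) : MvPolynomial τ k ⧸ P) = Ideal.Quotient.mk P (aeval b q) := fun q => by
    have h1 : (Subalgebra.val _).comp φ = (Ideal.Quotient.mkₐ k P).comp (aeval b) := algHom_ext fun i => by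
      simp [φ, y]
    exact AlgHom.congr_fun h1 q
  refine ⟨F.map φ.toRingHom, fun h0 => ?_, ?_⟩
  · have h1 : (φ (F.coeff K) : MvPolynomial τ k ⧸ P) = 0 := by
      have h3 : (F.map φ.toRingHom).coeff K = 0 := by rw [h0]; exact Polynomial.coeff_zero K
      rw [Polynomial.coeff_map] at h3
      exact congrArg Subtype.val h3
    rw [hφ, Ideal.Quotient.eq_zero_iff_mem] at h1
    exact notMem_of_eval_ne_zero hP hK h1
  · have hmem : (F.map (aeval b).toRingHom).eval (X t) ∈ vanish D := mem_vanish.mpr fun v hv => by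
      rw [← Polynomial.eval_map_apply, Polynomial.map_map, eval_X]
      have hcomp : (eval v).comp (aeval b).toRingHom = eval fun i => eval v (b i) :=
        MvPolynomial.ringHom_ext (fun a => by simp) fun i => by simp
      rw [hcomp]
      exact hF v hv
    have h1 : Ideal.Quotient.mk P ((F.map (aeval b).toRingHom).eval (X t)) = 0 :=
      Ideal.Quotient.eq_zero_iff_mem.mpr (hP.1.2 hmem)
    rw [← Polynomial.eval_map_apply, Polynomial.map_map] at h1
    have hc : (algebraMap (Algebra.adjoin k (Set.range y)) (MvPolynomial τ k ⧸ P)).comp φ.toRingHom =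
        (Ideal.Quotient.mk P).comp (aeval b).toRingHom := RingHom.ext hφ
    rw [Polynomial.aeval_def, ← Polynomial.eval_map, Polynomial.map_map, hc]
    exact h1

/-- From the minimal primes to relations. -/
theorem dimLE_of_trdeg
    (h : ∀ P ∈ (vanish D).minimalPrimes, Algebra.trdeg k (MvPolynomial τ k ⧸ P) ≤ (e : Cardinal)) :
    ∀ p : Fin (e + 1) → MvPolynomial τ k, ∃ Q : MvPolynomial (Fin (e + 1)) k, Q ≠ 0 ∧
      ∀ v ∈ D, eval (fun i => eval v (p i)) Q = 0 := by
  classical
  intro p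
  have hfin : (vanish D).minimalPrimes.Finite := Ideal.finite_minimalPrimes_of_isNoetherianRing _ _
  have hP : ∀ P : hfin.toFinset, ∃ Q : MvPolynomial (Fin (e + 1)) k, Q ≠ 0 ∧ aeval p Q ∈ P.1 := by
    intro P
    have hP := hfin.mem_toFinset.mp P.2
    haveI : P.1.IsPrime := hP.1.1
    by_contra hno
    push Not at hno
    have hind : AlgebraicIndependent k fun i => Ideal.Quotient.mk P.1 (p i) := by
      refine algebraicIndependent_iff.mpr fun Q hQ => by_contra fun hne => hno Q hne ?_
      rw [← Ideal.Quotient.eq_zero_iff_mem, ← hQ]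
      exact AlgHom.congr_fun (algHom_ext (f := (Ideal.Quotient.mkₐ k P.1).comp (aeval p))
        (g := aeval fun i => Ideal.Quotient.mk P.1 (p i)) fun i => by simp) Q
    have := hind.lift_cardinalMk_le_trdeg
    rw [Cardinal.mk_fintype, Fintype.card_fin, Cardinal.lift_natCast] at this
    have h2 := this.trans (Cardinal.lift_le.mpr (h _ hP))
    rw [Cardinal.lift_natCast] at h2
    have : e + 1 ≤ e := by exact_mod_cast h2
    omega
  choose Q hQ hQ0 using hP
  refine ⟨∏ P, Q P, Finset.prod_ne_zero_iff.mpr fun P _ => hQ P, ?_⟩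
  have hmem : aeval p (∏ P, Q P) ∈ vanish D := by
    refine (vanish_isRadical D).radical.le ?_
    refine (Ideal.sInf_minimalPrimes (I := vanish D)).le ?_
    rw [Ideal.mem_sInf]
    intro P hP
    rw [map_prod]
    let i : hfin.toFinset := ⟨P, hfin.mem_toFinset.mpr hP⟩
    have hd : aeval p (Q i) ∣ ∏ P, aeval p (Q P) :=
      Finset.dvd_prod_of_mem (fun P => aeval p (Q P)) (Finset.mem_univ i)
    exact Ideal.mem_of_dvd P hd (hQ0 i)
  intro v hv
  have := mem_vanish.mp hmem v hv
  rwa [← aeval_eq_eval, comp_aeval_apply] at this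

theorem dimLE_of_trdeg' (h : ∀ P ∈ (vanish D).minimalPrimes, Algebra.trdeg k (MvPolynomial τ k ⧸ P) ≤ (e : Cardinal)) :
    DimLE D e := fun s => by
  obtain ⟨Q, hQ, hQ0⟩ := dimLE_of_trdeg h fun i => X (s i)
  refine ⟨Q, hQ, fun v hv => ?_⟩
  simpa [Function.comp_def] using hQ0 v hv

set_option maxHeartbeats 1000000 in
lemma DimLE.trdeg_le (h : DimLE D e) (P : Ideal (MvPolynomial τ k)) [P.IsPrime] (hP : vanish D ≤ P) :
    Algebra.trdeg k (MvPolynomial τ k ⧸ P) ≤ (e : Cardinal) := by
  classical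
  haveI : IsDomain (MvPolynomial τ k ⧸ P) := Ideal.Quotient.isDomain P
  let x : τ → MvPolynomial τ k ⧸ P := fun t => Ideal.Quotient.mk P (X t)
  haveI : Algebra.IsAlgebraic (Algebra.adjoin k (Set.range x)) (MvPolynomial τ k ⧸ P) := by
    have htop : Algebra.adjoin k (Set.range x) = ⊤ := by
      rw [show Set.range x = (Ideal.Quotient.mkₐ k P) '' Set.range (X : τ → MvPolynomial τ k) from
        (Set.range_comp _ _), ← AlgHom.map_adjoin, adjoin_range_X, Algebra.map_top, AlgHom.range_eq_top]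
      exact Ideal.Quotient.mkₐ_surjective k P
    exact ⟨fun y => isAlgebraic_algebraMap (R := Algebra.adjoin k (Set.range x)) (A := MvPolynomial τ k ⧸ P) ⟨y, htop ▸ Algebra.mem_top⟩⟩
  obtain ⟨t, hts, ht⟩ := exists_isTranscendenceBasis_subset (R := k) (A := MvPolynomial τ k ⧸ P) (Set.range x)
  haveI : Fintype t := ((Set.finite_range x).subset hts).fintype
  rw [← ht.cardinalMk_eq_trdeg, Cardinal.mk_fintype]
  by_contra hlt
  rw [Nat.cast_le, not_le] at hlt
  obtain ⟨g⟩ := Function.Embedding.nonempty_of_card_le (α := Fin (e + 1)) (β := t) (by simpa using hlt)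
  choose s hs using fun i => hts (g i).2
  obtain ⟨Q, hQ, hQ0⟩ := h s
  have hind : AlgebraicIndependent k fun i => x (s i) := by
    have h2 := ht.1.comp g g.injective
    have heq : (fun i => x (s i)) = fun i => ((g i : t) : MvPolynomial τ k ⧸ P) := funext hs
    rw [heq]
    exact h2
  refine hQ (algebraicIndependent_iff.mp hind Q ?_)
  have hmem : rename s Q ∈ P := hP (mem_vanish.mpr fun v hv => by rw [eval_rename]; exact hQ0 v hv)
  have hcomp : aeval (fun i => x (s i)) = (Ideal.Quotient.mkₐ k P).comp (rename s) :=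
    algHom_ext fun i => by simp [x]
  rw [hcomp]
  exact Ideal.Quotient.eq_zero_iff_mem.mpr hmem

/-- Polynomial images do not increase dimension. -/
theorem DimLE.image {τ' : Type u} (h : DimLE D e) (p : τ' → MvPolynomial τ k) (D' : Set (τ' → k))
    (hD : ∀ w ∈ D', ∃ v ∈ D, ∀ i, w i = eval v (p i)) : DimLE D' e := fun s => by
  obtain ⟨Q, hQ, hQ0⟩ := dimLE_of_trdeg (D := D) (e := e) (fun P hP => by haveI := hP.1.1; exact DimLE.trdeg_le h P hP.1.2) fun i => p (s i)
  refine ⟨Q, hQ, fun w hw => ?_⟩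
  obtain ⟨v, hv, hwv⟩ := hD w hw
  rw [← hQ0 v hv]
  exact congrArg (fun f => eval f Q) (funext fun i => hwv (s i))

/-- The height of the vanishing ideal. -/
theorem DimLE.height_ge {N : ℕ} {D : Set (Fin N → k)} {e : ℕ} (h : ∀ (P : Ideal (MvPolynomial (Fin N) k)) [P.IsPrime],
      vanish D ≤ P → Algebra.trdeg k (MvPolynomial (Fin N) k ⧸ P) ≤ (e : Cardinal)) :
    ((N - e : ℕ) : ℕ∞) ≤ (vanish D).height := by
  rw [Ideal.height_eq_inf_minimalPrimes]
  refine le_iInf₂ fun P hP => ?_
  haveI := hP.1.1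
  obtain ⟨a, r, ha, hr, har⟩ := CILib.height_add_trdeg_mvPolynomial (k := k) P
  have h1 := h P hP.1.2
  rw [hr] at h1
  have h2 : r ≤ e := by exact_mod_cast h1
  rw [ha]
  exact_mod_cast (show N - e ≤ a by omega)

end Groth.Agent.FanoGenLib
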