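import Mathlib
import Groth.Agent.FanoGenLib.SetDim
import Groth.Agent.FanoGenLib.Cert

/-! Forms failing to cut the dimension of a family of cones form a small set. -/

set_option autoImplicit false
universe u

namespace Groth.Agent.FanoGenLib

open MvPolynomial

variable {k : Type u} [Field k]

/-- Interpolation points for forms. -/
theorem exists_interpolation [Infinite k] (r e : ℕ) :
    ∃ (a : Mon r e → Fin (r + 1) → k) (h : Mon r e → MvPolynomial (Fin (r + 1)) k),
      (∀ μ, (h μ).IsHomogeneous e) ∧ ∀ μ ν, eval (a ν) (h μ) = if μ = ν then 1 else 0 := by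
  classical
  let v : (Fin (r + 1) → k) → (Mon r e → k) := fun a μ => eval a (monomial μ.1 (1 : k))
  have hspan : Submodule.span k (Set.range v) = ⊤ := by
    by_contra hne
    obtain ⟨f, hf, hfv⟩ := Submodule.exists_le_ker_of_lt_top _ (lt_of_le_of_ne le_top hne)
    refine hf (LinearMap.pi_ext' fun μ => LinearMap.ext_ring ?_)
    have hp : (∑ ν : Mon r e, monomial ν.1 (f (Pi.single ν 1))) = 0 := MvPolynomial.funext fun a => by
      rw [map_zero, map_sum]
      have := hfv (Submodule.subset_span ⟨a, rfl⟩)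
      rw [LinearMap.mem_ker, pi_eq_sum_univ' (v a), map_sum] at this
      refine Eq.trans (Finset.sum_congr rfl fun ν _ => ?_) this
      rw [map_smul, smul_eq_mul]
      simp only [v, eval_monomial]
      ring
    have := congrArg (coeff μ.1) hp
    rw [coeff_sum, Finset.sum_eq_single μ (fun ν _ hν => by
      rw [coeff_monomial, if_neg fun h => hν (Subtype.ext h)]) (fun h => absurd (Finset.mem_univ μ) h),
      coeff_monomial, if_pos rfl, coeff_zero] at this
    simpa using this
  obtain ⟨b, hb, hbs, hind⟩ := exists_linearIndependent k (Set.range v)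
  rw [hspan] at hbs
  let B : Module.Basis b k (Mon r e → k) := Module.Basis.mk hind (by rw [Subtype.range_coe, hbs])
  let eR : Mon r e ≃ b := (Pi.basisFun k (Mon r e)).indexEquiv B
  choose sec hsec using fun x : b => hb x.2
  refine ⟨fun μ => sec (eR μ), fun μ => ∑ ν : Mon r e, monomial ν.1 (B.coord (eR μ) (Pi.single ν 1)),
    fun μ => IsHomogeneous.sum _ _ _ fun ν _ => isHomogeneous_monomial _ ν.2, fun μ ν => ?_⟩
  have h1 : eval (sec (eR ν)) (∑ ν' : Mon r e, monomial ν'.1 (B.coord (eR μ) (Pi.single ν' 1))) =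
      B.coord (eR μ) (v (sec (eR ν))) := by
    conv_rhs => rw [pi_eq_sum_univ' (v (sec (eR ν))), map_sum]
    rw [map_sum]
    exact Finset.sum_congr rfl fun ν' _ => by
      rw [map_smul, smul_eq_mul]
      simp only [v, eval_monomial]
      ring
  rw [h1, hsec, show ((eR ν : b) : Mon r e → k) = B (eR ν) by simp [B], Module.Basis.coord_apply,
    B.repr_self, Finsupp.single_apply]
  by_cases h : μ = ν <;> simp [h, eR.injective.eq_iff, Ne.symm]

variable {n l e r : ℕ} {β : Type u} [Fintype β] (G : Fin l → MvPolynomial (Fin (n + 1)) (MvPolynomial β k))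

/-- The form with given coefficients. -/
noncomputable def formOf (w : Mon n e → k) : MvPolynomial (Fin (n + 1)) k := ∑ μ, monomial μ.1 (w μ)

/-- The bad pairs over one certificate. -/
theorem dimLE_stage_cert [IsAlgClosed k] {L : Fin (r + 1) → MvPolynomial (Fin (n + 1)) k} {N : ℕ}
    {δ : MvPolynomial β k} (hL : ∀ i, (L i).IsHomogeneous 1) (hδ : Cert G L N δ) (D : Set (β ⊕ Mon n e → k))
    (hne : ∀ v ∈ D, eval (v ∘ Sum.inl) δ ≠ 0)
    (hge : ∀ v ∈ D, ((r + 1 : ℕ) : WithBot ℕ∞) ≤ ringKrullDim (MvPolynomial (Fin (n + 1)) k ⧸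
      (coneIdeal G (v ∘ Sum.inl) ⊔ Ideal.span {formOf (v ∘ Sum.inr)}))) :
    DimLE D (Fintype.card β + Fintype.card (Mon n e) - Fintype.card (Mon r e)) := by
  classical
  rcases D.eq_empty_or_nonempty with rfl | ⟨v₀, hv₀⟩
  · exact fun s => ⟨1, one_ne_zero, fun v hv => hv.elim⟩
  obtain ⟨a, h, hh, hha⟩ := exists_interpolation (k := k) r e
  have hpts : ∀ v ∈ D, ∀ μ : Mon r e, ∃ y : Fin (n + 1) → k,
      (∀ i, eval y (spec (v ∘ Sum.inl) (G i)) = 0) ∧ eval y (formOf (v ∘ Sum.inr)) = 0 ∧ ∀ i, eval y (L i) = a μ i :=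
    fun v hv μ => exists_point_over G hδ _ (hne v hv) _ (hge v hv) (a μ)
  let q : Mon r e → MvPolynomial (Fin (n + 1)) k := fun μ => aeval L (h μ)
  have hq : ∀ μ, (q μ).IsHomogeneous e := fun μ => by
    have := (hh μ).aeval (n := 1) L hL
    rwa [one_mul] at this
  let u : Mon r e → (Mon n e → k) := fun μ ν => coeff ν.1 (q μ)
  let evf : (Fin (n + 1) → k) → ((Mon n e → k) →ₗ[k] k) := fun y =>
    (aeval (R := k) y).toLinearMap ∘ₗ
      { toFun := formOf
        map_add' := fun w w' => by simp [formOf, Finset.sum_add_distrib]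
        map_smul' := fun c w => by simp [formOf, Finset.smul_sum, smul_monomial] }
  have hevf : ∀ y w, evf y w = eval y (formOf w) := fun y w => by simp [evf, aeval_eq_eval]
  have hform : ∀ μ, formOf (u μ) = q μ := fun μ => by
    ext ν
    rw [formOf, coeff_sum]
    by_cases hν : ν.degree = e
    · rw [Finset.sum_eq_single (⟨ν, hν⟩ : Mon n e) (fun b _ hb => by
        rw [coeff_monomial, if_neg fun h => hb (Subtype.ext h)]) (fun h => absurd (Finset.mem_univ _) h),
        coeff_monomial, if_pos rfl]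
    · rw [(hq μ).coeff_eq_zero hν]
      exact Finset.sum_eq_zero fun b _ => by rw [coeff_monomial, if_neg fun h : b.1 = ν => hν (h ▸ b.2)]
  have heval : ∀ (y : Fin (n + 1) → k) ν, (∀ i, eval y (L i) = a ν i) → ∀ μ, evf y (u μ) = if μ = ν then 1 else 0 := by
    intro y ν hy μ
    rw [hevf, hform]
    show eval y (aeval L (h μ)) = _
    rw [← hha μ ν]
    have := comp_aeval_apply L (aeval (R := k) y) (h μ)
    simp only [aeval_eq_eval] at this
    rw [this]
    exact congrArg (fun f => eval f (h μ)) (funext hy)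
  have hind : LinearIndependent k u := by
    rw [Fintype.linearIndependent_iff]
    intro c hc ν
    obtain ⟨y, -, -, hy⟩ := hpts v₀ hv₀ ν
    have := congrArg (evf y) hc
    simpa [heval y ν hy] using this
  obtain ⟨W, hW⟩ := (Submodule.span k (Set.range u)).exists_isCompl
  let c := Module.finBasis k ↥W
  have hcard : Module.finrank k ↥W = Fintype.card (Mon n e) - Fintype.card (Mon r e) := by
    have h1 := Submodule.finrank_add_eq_of_isCompl hW
    rw [finrank_span_eq_card hind, Module.finrank_fintype_fun_eq_card] at h1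
    omega
  -- auxiliary points
  let q' := Module.finrank k ↥W
  let base : Type u := β ⊕ ULift.{u} (Fin q')
  let pts : Type u := ULift.{u} (Mon r e × Fin (n + 1))
  let E : Set (base ⊕ pts → k) := {x | eval (fun i => x (Sum.inl (Sum.inl i))) δ ≠ 0 ∧
    ∀ μ, (∀ i, eval (fun j => x (Sum.inr ⟨(μ, j)⟩)) (spec (fun i => x (Sum.inl (Sum.inl i))) (G i)) = 0) ∧
      ∀ i, eval (fun j => x (Sum.inr ⟨(μ, j)⟩)) (L i) = a μ i}
  have hE : DimLE E (Fintype.card β + Fintype.card (Mon n e) - Fintype.card (Mon r e)) := by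
    have hle : Fintype.card base = Fintype.card β + (Fintype.card (Mon n e) - Fintype.card (Mon r e)) := by
      simp [base, q', hcard]
    have hMle : Fintype.card (Mon r e) ≤ Fintype.card (Mon n e) := by
      have := hind.fintype_card_le_finrank
      rwa [Module.finrank_fintype_fun_eq_card] at this
    rw [Nat.add_sub_assoc hMle, ← hle]
    refine dimLE_of_trdeg' (dimLE_of_relations (fun i : base => X (Sum.inl i)) fun t => ?_)
    rcases t with i | ⟨⟨μ, j⟩⟩
    · refine ⟨Polynomial.X - Polynomial.C (X i), 1, fun x _ => ?_, fun x _ => ?_⟩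
      · simp [Polynomial.coeff_C]
      · simp
    · obtain ⟨F, hF, hroot⟩ := exists_monic_relation G hδ j
      let χ : MvPolynomial (β ⊕ Fin (r + 1)) k →ₐ[k] MvPolynomial base k :=
        aeval (Sum.elim (fun i => X (Sum.inl i)) (fun i => C (a μ i)))
      refine ⟨(F.map χ.toRingHom).comp (Polynomial.C (rename Sum.inl δ) * Polynomial.X),
        (F.map χ.toRingHom).natDegree, fun x hx => ?_, fun x hx => ?_⟩
      · rw [Polynomial.comp_C_mul_X_coeff, Polynomial.coeff_natDegree, (hF.map _).leadingCoeff, one_mul, map_pow,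
          map_pow, aeval_rename]
        refine pow_ne_zero _ ?_
        have := comp_aeval_apply (fun i : β => (X (Sum.inl (Sum.inl i)) : MvPolynomial (base ⊕ pts) k)) (aeval (R := k) x) δ
        simp only [aeval_eq_eval, eval_X] at this
        exact fun h0 => hx.1 (this.symm.trans h0)
      · simp only [eval_X]
        rw [Polynomial.map_comp, Polynomial.eval_comp, Polynomial.map_map]
        have h := hroot k (fun i => x (Sum.inl (Sum.inl i))) (fun j => x (Sum.inr ⟨(μ, j)⟩))
          (by simpa [aeval_eq_eval] using (hx.2 μ).1)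
        refine Eq.trans ?_ h
        congr 2
        · simp [eval_rename, Function.comp_def]
        · refine MvPolynomial.ringHom_ext (fun c => by simp [χ]) fun i => ?_
          cases i with
          | inl i => simp [χ]
          | inr i => simp [χ, aeval_eq_eval, (hx.2 μ).2 i]
  let P : (β ⊕ Mon n e) → MvPolynomial (base ⊕ pts) k := Sum.elim (fun i => X (Sum.inl (Sum.inl i))) fun ν =>
    ∑ j, X (Sum.inl (Sum.inr ⟨j⟩)) * C ((c j).1 ν) -
      ∑ μ, C (u μ ν) * ∑ j, X (Sum.inl (Sum.inr ⟨j⟩)) *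
        ∑ ν' : Mon n e, C ((c j).1 ν') * ∏ i, X (Sum.inr ⟨(μ, i)⟩) ^ ν'.1 i
  refine hE.image P D fun v hv => ?_
  choose y hyG hyg hyL using hpts v hv
  obtain ⟨g₁, hg₁, g₀, hg₀, hsum⟩ := Submodule.mem_sup.mp
    (show v ∘ Sum.inr ∈ Submodule.span k (Set.range u) ⊔ W by rw [hW.sup_eq_top]; trivial)
  obtain ⟨cf, hcf⟩ := Submodule.mem_span_range_iff_exists_fun _ |>.mp hg₁
  let x : base ⊕ pts → k := Sum.elim (Sum.elim (v ∘ Sum.inl) fun j => c.repr ⟨g₀, hg₀⟩ j.down)
    fun p => y p.down.1 p.down.2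
  refine ⟨x, ⟨hne v hv, fun μ => ⟨hyG μ, hyL μ⟩⟩, fun i => ?_⟩
  rcases i with i | ν
  · simp [P, x]
  have hg0 : ∀ ν, g₀ ν = ∑ j, c.repr ⟨g₀, hg₀⟩ j * (c j).1 ν := fun ν => by
    have := congrArg (fun w : ↥W => w.1 ν) (c.sum_repr ⟨g₀, hg₀⟩)
    simp only [Submodule.coe_sum, Finset.sum_apply, Submodule.coe_smul, Pi.smul_apply, smul_eq_mul] at this
    exact this.symm
  have hcoef : ∀ μ, cf μ = -evf (y μ) g₀ := fun μ => by
    have h0 := hyg μ
    rw [← hevf, ← hsum, map_add, ← hcf, map_sum] at h0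
    simp [heval _ μ (hyL μ)] at h0
    linear_combination h0
  have hP : ∀ μ, evf (y μ) g₀ = ∑ j, c.repr ⟨g₀, hg₀⟩ j * ∑ ν', (c j).1 ν' * ∏ i, y μ i ^ ν'.1 i := fun μ => by
    rw [hevf, formOf, map_sum]
    simp only [Finset.mul_sum]
    rw [Finset.sum_comm]
    refine Finset.sum_congr rfl fun ν' _ => ?_
    rw [eval_monomial, hg0, Finset.sum_mul, Finsupp.prod_fintype _ _ (fun i => pow_zero _)]
    exact Finset.sum_congr rfl fun j _ => mul_assoc _ _ _
  show v (Sum.inr ν) = eval x (P (Sum.inr ν))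
  rw [show v (Sum.inr ν) = (g₁ + g₀) ν by rw [hsum]; rfl, Pi.add_apply, ← hcf, hg0 ν, Finset.sum_apply]
  simp only [P, Sum.elim_inr, map_sub, map_sum, map_mul, map_prod, map_pow, eval_X, eval_C, x, Sum.elim_inl,
    Pi.smul_apply, smul_eq_mul, hcoef, hP, neg_mul, Finset.sum_neg_distrib]
  rw [sub_eq_add_neg, add_comm]
  congr 1
  congr 1
  exact Finset.sum_congr rfl fun μ _ => mul_comm _ _

/-- The pairs of a family of cones of dimension at most `r + 1` with a form not cutting it down. -/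
theorem dimLE_stage [IsAlgClosed k] (dG : Fin l → ℕ) (hG : ∀ i, (G i).IsHomogeneous (dG i))
    (D : Set (β ⊕ Mon n e → k))
    (hle : ∀ v ∈ D, ringKrullDim (MvPolynomial (Fin (n + 1)) k ⧸ coneIdeal G (v ∘ Sum.inl)) ≤ ((r + 1 : ℕ) : WithBot ℕ∞))
    (hge : ∀ v ∈ D, ((r + 1 : ℕ) : WithBot ℕ∞) ≤ ringKrullDim (MvPolynomial (Fin (n + 1)) k ⧸
      (coneIdeal G (v ∘ Sum.inl) ⊔ Ideal.span {formOf (v ∘ Sum.inr)}))) :
    DimLE D (Fintype.card β + Fintype.card (Mon n e) - Fintype.card (Mon r e)) := by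
  classical
  let Δ : Set (MvPolynomial β k) := {δ | ∃ (L : Fin (r + 1) → MvPolynomial (Fin (n + 1)) k) (N : ℕ),
    (∀ i, (L i).IsHomogeneous 1) ∧ Cert G L N δ}
  obtain ⟨s, hs, hspan⟩ := (Submodule.fg_span_iff_fg_span_finset_subset Δ).mp
    (IsNoetherian.noetherian (Submodule.span (MvPolynomial β k) Δ))
  have hcov : D ⊆ ⋃ δ : {x // x ∈ s}, {v ∈ D | eval (v ∘ Sum.inl) δ.1 ≠ 0} := fun v hv => by
    obtain ⟨L, N, δ, hL, hc, hne⟩ := exists_cert G dG hG _ _ (hle v hv)
    by_contra hno
    simp only [Set.mem_iUnion, Set.mem_setOf_eq, not_exists, not_and, not_not] at hno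
    refine hne ?_
    have hmem : δ ∈ Ideal.span (s : Set (MvPolynomial β k)) := by
      show δ ∈ Submodule.span (MvPolynomial β k) (s : Set (MvPolynomial β k))
      rw [← hspan]
      exact Submodule.subset_span ⟨L, N, hL, hc⟩
    have hker : Ideal.span (s : Set (MvPolynomial β k)) ≤ RingHom.ker (eval (v ∘ Sum.inl)) :=
      Ideal.span_le.mpr fun x hx => hno ⟨x, hx⟩ hv
    exact hker hmem
  refine DimLE.mono (DimLE.iUnion fun δ => ?_) hcov
  obtain ⟨L, N, hL, hc⟩ := hs δ.2
  exact dimLE_stage_cert G hL hc _ (fun v hv => hv.2) fun v hv => hge v hv.1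

end Groth.Agent.FanoGenLib
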