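import Mathlib
import Groth.Agent.FanoGenLib.Stage

/-! Sequences of forms of degrees `1, …, d` cutting less than expected. -/

set_option autoImplicit false

namespace Groth.Agent.FanoGenLib

open MvPolynomial

universe u

/-- Codimension from the dimension in coordinates. -/
theorem codimGE_of_dimLE {k : Type u} [Field k] [Infinite k] {V : Type u} [AddCommGroup V] [Module k V]
    {τ : Type u} [Fintype τ] (b : Module.Basis τ k V) (D : Set V) (e c : ℕ)
    (h : DimLE {w : τ → k | ∃ v ∈ D, w = b.equivFun v} e) (hc : c + e ≤ Fintype.card τ) : LefPen.CodimGE k D c := by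
  classical
  let N := Fintype.card τ
  let g : Fin N ≃ τ := (Fintype.equivFin τ).symm
  let D' : Set (Fin N → k) := {w | ∃ v ∈ D, w = fun i => b.equivFun v (g i)}
  have hD' : ∀ (P : Ideal (MvPolynomial (Fin N) k)) [P.IsPrime], vanish D' ≤ P →
      Algebra.trdeg k (MvPolynomial (Fin N) k ⧸ P) ≤ (e : Cardinal) := by
    intro P _ hP
    let φ : MvPolynomial τ k ≃ₐ[k] MvPolynomial (Fin N) k := renameEquiv k g.symm
    let P' : Ideal (MvPolynomial τ k) := P.comap φ.toAlgHom
    haveI : P'.IsPrime := Ideal.IsPrime.comap _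
    have hle : vanish {w : τ → k | ∃ v ∈ D, w = b.equivFun v} ≤ P' := fun p hp => hP (mem_vanish.mpr (by
      rintro w ⟨v, hv, rfl⟩
      show eval _ (rename g.symm p) = 0
      rw [eval_rename]
      refine Eq.trans ?_ (mem_vanish.mp hp _ ⟨v, hv, rfl⟩)
      exact congrArg (fun f => eval f p) (funext fun t => by simp)))
    have h1 := h.trdeg_le P' hle
    have e1 : (MvPolynomial τ k ⧸ P') ≃ₐ[k] (MvPolynomial (Fin N) k ⧸ P) :=
      Ideal.quotientEquivAlg P' P φ (Ideal.map_comap_of_surjective _ φ.surjective P).symm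
    have h2 := e1.trdeg_eq
    rwa [← h2]
  have hht := DimLE.height_ge hD'
  let coord : Fin N → Module.Dual k V := fun i => b.coord (g i)
  let Φ₀ : MvPolynomial (Fin N) k →ₐ[k] (V → k) := aeval fun i => (coord i : V → k)
  have hΦ : ∀ p v, Φ₀ p v = eval (fun i => b.equivFun v (g i)) p := fun p v => by
    have h1 := AlgHom.congr_fun (algHom_ext (f := (Pi.evalAlgHom k (fun _ : V => k) v).comp Φ₀)
      (g := aeval fun i => b.equivFun v (g i)) fun i => by simp [Φ₀, coord]) p
    simpa [aeval_eq_eval] using h1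
  have hrange : Φ₀.range = LefPen.polyFunAlg k V := by
    refine le_antisymm ?_ (Algebra.adjoin_le ?_)
    · rintro _ ⟨p, rfl⟩
      induction p using MvPolynomial.induction_on with
      | C a =>
        rw [AlgHom.toRingHom_eq_coe, RingHom.coe_coe, show (C a : MvPolynomial (Fin N) k) = algebraMap k _ a from rfl, AlgHom.commutes]
        exact Subalgebra.algebraMap_mem _ a
      | add p q hp hq =>
        simp only [AlgHom.toRingHom_eq_coe, RingHom.coe_coe, map_add] at hp hq ⊢
        exact add_mem hp hq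
      | mul_X p i hp =>
        simp only [AlgHom.toRingHom_eq_coe, RingHom.coe_coe, map_mul] at hp ⊢
        exact mul_mem hp (by simp only [Φ₀, aeval_X]; exact Algebra.subset_adjoin ⟨coord i, rfl⟩)
    · rintro _ ⟨l, rfl⟩
      refine ⟨∑ i, C (l (b (g i))) * X i, funext fun v => ?_⟩
      show Φ₀ _ v = l v
      rw [hΦ, map_sum]
      conv_rhs => rw [← b.sum_repr v, map_sum]
      refine (Fintype.sum_equiv g _ _ fun i => ?_)
      simp [mul_comm]
  let Φ : MvPolynomial (Fin N) k ≃ₐ[k] ↥(LefPen.polyFunAlg k V) :=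
    (AlgEquiv.ofInjective Φ₀ (fun p q hpq => by
      refine MvPolynomial.funext fun w => ?_
      have h1 := congrFun hpq (b.equivFun.symm fun t => w (g.symm t))
      rw [hΦ, hΦ, LinearEquiv.apply_symm_apply] at h1
      simpa using h1)).trans (Subalgebra.equivOfEq _ _ hrange)
  have hmap : (LefPen.vanishingFun k D).comap Φ.toRingEquiv = vanish D' := by
    ext p
    rw [Ideal.mem_comap, mem_vanish]
    refine ⟨fun hp w ⟨v, hv, hw⟩ => ?_, fun hp v hv => ?_⟩
    · rw [hw, ← hΦ]; exact hp v hv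
    · show Φ₀ p v = 0
      rw [hΦ]; exact hp _ ⟨v, hv, rfl⟩
  show (c : ℕ∞) ≤ _
  rw [← RingEquiv.height_comap Φ.toRingEquiv, hmap]
  refine le_trans ?_ hht
  exact_mod_cast (by omega : c ≤ N - e)

variable {k : Type} [Field k]

/-- Coefficients of sequences of forms of degrees `1, …, d`. -/
abbrev SeqIdx (m d : ℕ) : Type := Σ j : Fin d, Mon m (j.1 + 1)

/-- The forms with given coefficients. -/
noncomputable def seqForm {m d : ℕ} (v : SeqIdx m d → k) (j : Fin d) : MvPolynomial (Fin (m + 1)) k :=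
  formOf fun μ => v ⟨j, μ⟩

lemma card_mon_ge (r e : ℕ) : Nat.choose (r + e) r ≤ Fintype.card (Mon r e) :=
  (choose_le_card_supported (m := r) (⟨Finset.univ, by simp⟩ : Chart r r)).trans (Fintype.card_subtype_le _)

lemma succ_le_choose (N e : ℕ) (h1 : 1 ≤ e) (h2 : e + 1 ≤ N) : N ≤ N.choose e := by
  induction N generalizing e with
  | zero => omega
  | succ N ih =>
    rcases eq_or_lt_of_le h1 with rfl | h
    · rw [Nat.choose_one_right]
    · obtain ⟨e, rfl⟩ : ∃ e', e = e' + 1 := ⟨e - 1, by omega⟩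
      rw [Nat.choose_succ_succ, Nat.succ_eq_add_one]
      have := ih e (by omega) (by omega)
      have := Nat.choose_pos (n := N) (k := e + 1) (by omega)
      omega

/-- Sequences failing first at one stage. -/
theorem dimLE_badSeq_stage [IsAlgClosed k] (m d : ℕ) (hdm : d ≤ m) (j : Fin d) :
    DimLE {v : SeqIdx m d → k |
      ringKrullDim (MvPolynomial (Fin (m + 1)) k ⧸ Ideal.span (seqForm v '' {i | i.1 < j.1})) ≤
          ((m + 1 - j.1 : ℕ) : WithBot ℕ∞) ∧
        ((m + 1 - j.1 : ℕ) : WithBot ℕ∞) ≤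
          ringKrullDim (MvPolynomial (Fin (m + 1)) k ⧸ Ideal.span (seqForm v '' {i | i.1 ≤ j.1}))}
      (Fintype.card (SeqIdx m d) - (m + 1)) := by
  classical
  have hj := j.2
  let β := {t : SeqIdx m d // t.1 ≠ j}
  let G : Fin j.1 → MvPolynomial (Fin (m + 1)) (MvPolynomial β k) := fun i =>
    ∑ μ : Mon m (i.1 + 1), monomial μ.1 (X (⟨⟨⟨i.1, i.2.trans j.2⟩, μ⟩, fun h => absurd (congrArg Fin.val h) i.2.ne⟩ : β))
  let emb : β ⊕ Mon m (j.1 + 1) → SeqIdx m d := Sum.elim (fun t => t.1) fun μ => ⟨j, μ⟩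
  let D : Set (β ⊕ Mon m (j.1 + 1) → k) := (fun v => v ∘ emb) '' {v : SeqIdx m d → k |
      ringKrullDim (MvPolynomial (Fin (m + 1)) k ⧸ Ideal.span (seqForm v '' {i | i.1 < j.1})) ≤
          ((m + 1 - j.1 : ℕ) : WithBot ℕ∞) ∧
        ((m + 1 - j.1 : ℕ) : WithBot ℕ∞) ≤
          ringKrullDim (MvPolynomial (Fin (m + 1)) k ⧸ Ideal.span (seqForm v '' {i | i.1 ≤ j.1}))}
  have hcone : ∀ v : SeqIdx m d → k,
      coneIdeal G ((v ∘ emb) ∘ Sum.inl) = Ideal.span (seqForm v '' {i | i.1 < j.1}) := by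
    intro v
    refine congrArg Ideal.span (Set.ext fun p => ?_)
    constructor
    · rintro ⟨i, rfl⟩
      exact ⟨⟨i.1, i.2.trans j.2⟩, i.2, by simp [seqForm, formOf, G, spec, emb]⟩
    · rintro ⟨i, hi, rfl⟩
      exact ⟨⟨i.1, hi⟩, by simp [seqForm, formOf, G, spec, emb]⟩
  have hsucc : ∀ v : SeqIdx m d → k,
      coneIdeal G ((v ∘ emb) ∘ Sum.inl) ⊔ Ideal.span {formOf ((v ∘ emb) ∘ Sum.inr)} =
        Ideal.span (seqForm v '' {i | i.1 ≤ j.1}) := by
    intro v
    rw [hcone v, ← Ideal.span_union]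
    refine congrArg Ideal.span ?_
    rw [show {i : Fin d | i.1 ≤ j.1} = {i | i.1 < j.1} ∪ {j} by
      ext i; simp [le_iff_lt_or_eq, Fin.ext_iff]; omega, Set.image_union, Set.image_singleton]
    rfl
  have hst := dimLE_stage (r := m - j.1) G (fun i => i.1 + 1)
    (fun i => IsHomogeneous.sum _ _ _ fun μ _ => isHomogeneous_monomial _ μ.2) D
    (by
      rintro _ ⟨v, hv, rfl⟩
      rw [hcone v, show m - j.1 + 1 = m + 1 - j.1 by omega]
      exact hv.1)
    (by
      rintro _ ⟨v, hv, rfl⟩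
      rw [hsucc v, show m - j.1 + 1 = m + 1 - j.1 by omega]
      exact hv.2)
  have hcard : Fintype.card β + Fintype.card (Mon m (j.1 + 1)) = Fintype.card (SeqIdx m d) := by
    rw [← Fintype.card_sum]
    exact Fintype.card_congr
      ((Equiv.sumCongr (Equiv.refl β) ((Equiv.sigmaSubtype (α := Fin d) (β := fun j => Mon m (j.1 + 1)) j).symm)).trans
        ((Equiv.sumComm _ _).trans (Equiv.sumCompl fun t : SeqIdx m d => t.1 = j)))
  have hM : m + 1 ≤ Fintype.card (Mon (m - j.1) (j.1 + 1)) := by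
    refine le_trans ?_ (card_mon_ge _ _)
    rw [show m - j.1 + (j.1 + 1) = m + 1 by omega, Nat.choose_symm_of_eq_add (show m + 1 = (m - j.1) + (j.1 + 1) by omega)]
    exact succ_le_choose _ _ (by omega) (by omega)
  rw [hcard] at hst
  have hst' : DimLE D (Fintype.card (SeqIdx m d) - Fintype.card (Mon (m - j.1) (j.1 + 1))) := hst
  obtain ⟨a, ha⟩ : ∃ a, a + (Fintype.card (SeqIdx m d) - Fintype.card (Mon (m - j.1) (j.1 + 1))) =
      Fintype.card (SeqIdx m d) - (m + 1) := ⟨_, Nat.sub_add_cancel (by omega)⟩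
  have hbig := hst'.prod (α := Fin 0) (a := a) (by simp)
  rw [ha] at hbig
  refine hbig.image (fun t => if h : t.1 = j then X (Sum.inr (Sum.inr (h ▸ t.2))) else X (Sum.inr (Sum.inl ⟨t, h⟩))) _
    fun v hv => ⟨Sum.elim Fin.elim0 (v ∘ emb), ⟨v, hv, by simp [Sum.elim_comp_inr]⟩, fun t => ?_⟩
  obtain ⟨i, μ⟩ := t
  by_cases h : i = j
  · subst h; simp [emb]
  · simp [h, emb]

/-- The bad sequences. -/
theorem dimLE_badSeq [IsAlgClosed k] (m d : ℕ) (hdm : d ≤ m) :
    DimLE {v : SeqIdx m d → k | ((m + 2 - d : ℕ) : WithBot ℕ∞) ≤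
        ringKrullDim (MvPolynomial (Fin (m + 1)) k ⧸ Ideal.span (Set.range (seqForm v)))}
      (Fintype.card (SeqIdx m d) - (m + 1)) := by
  refine (DimLE.iUnion fun j : Fin d => dimLE_badSeq_stage m d hdm j).mono fun v hv => ?_
  let f : ℕ → WithBot ℕ∞ := fun a => ringKrullDim (MvPolynomial (Fin (m + 1)) k ⧸ Ideal.span (seqForm v '' {i | i.1 < a}))
  by_contra hno
  simp only [Set.mem_iUnion, Set.mem_setOf_eq, not_exists, not_and, not_le] at hno
  have key : ∀ a, a ≤ d → f a ≤ ((m + 1 - a : ℕ) : WithBot ℕ∞) := by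
    intro a
    induction a with
    | zero =>
      intro _
      refine (ringKrullDim_quotient_le _).trans ?_
      rw [MvPolynomial.ringKrullDim_of_isNoetherianRing, ringKrullDim_eq_zero_of_field, zero_add, Nat.card_fin, Nat.sub_zero]
    | succ a ih =>
      intro ha
      have h1 := hno ⟨a, by omega⟩ (ih (by omega))
      simp only at h1
      rw [show f (a + 1) = ringKrullDim (MvPolynomial (Fin (m + 1)) k ⧸ Ideal.span (seqForm v '' {i | i.1 ≤ a})) by
        simp only [f]
        rw [show {i : Fin d | i.1 < a + 1} = {i | i.1 ≤ a} from Set.ext fun i => Nat.lt_succ_iff]]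
      rw [show m + 1 - a = (m + 1 - (a + 1)) + 1 by omega, Nat.cast_add, Nat.cast_one] at h1
      exact ENat.WithBot.lt_add_one_iff.mp h1
  have h1 := key d le_rfl
  simp only [f] at h1
  rw [show seqForm v '' {i : Fin d | i.1 < d} = Set.range (seqForm v) by simp] at h1
  have h2 := le_trans hv h1
  have h3 : m + 2 - d ≤ m + 1 - d := by exact_mod_cast h2
  omega

end Groth.Agent.FanoGenLib
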