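import Mathlib
import Groth.Prelude.Def_LefPen
import Groth.Agent.FanoGenLib.Lines

/-! The incidence of a family of linear conditions of constant rank. -/

set_option autoImplicit false
universe u

namespace Groth.Agent.FanoGenLib

open MvPolynomial

variable {k : Type u} [Field k]

/-- A family over `|σ|` parameters of systems of more than `|σ|` independent linear equations misses a basic open. -/
theorem exists_miss_of_linear_family {σ τ R : Type*} [Fintype σ] [Fintype τ] [Fintype R]
    (M : R → τ → MvPolynomial σ k) (h : Fintype.card σ < Fintype.card R) :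
    ∃ q : MvPolynomial τ k, q ≠ 0 ∧ ∀ (c : σ → k) (w : τ → k),
      Function.Surjective (fun (x : τ → k) (l : R) => ∑ t, eval c (M l t) * x t) →
      (∀ l, ∑ t, eval c (M l t) * w t = 0) → eval w q = 0 := by
  classical
  let F : (R ↪ τ) → Type _ := fun P => {t : τ // t ∉ Finset.univ.map P}
  let A : (R ↪ τ) → Matrix R R (MvPolynomial σ k) := fun P => Matrix.of fun l l' => M l (P l')
  let rn : ∀ P : R ↪ τ, MvPolynomial σ k →ₐ[k] MvPolynomial (σ ⊕ F P) k := fun P => rename Sum.inl
  let p : ∀ P : R ↪ τ, τ → MvPolynomial (σ ⊕ F P) k := fun P t =>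
    if ht : t ∈ Finset.univ.map P then
      -∑ m, rn P ((A P).adjugate ((Finset.mem_map.mp ht).choose) m) * ∑ f : F P, rn P (M m f.1) * X (Sum.inr f)
    else X (Sum.inr ⟨t, ht⟩) * rn P (A P).det
  have hP : ∀ P : R ↪ τ, ∃ q : MvPolynomial τ k, q ≠ 0 ∧
      ∀ c : σ ⊕ F P → k, eval (fun i => eval c (p P i)) q = 0 := fun P =>
    exists_empty_fibre _ (by
      have h1 : Fintype.card (F P) = Fintype.card τ - Fintype.card R := by
        rw [Fintype.card_subtype_compl, Fintype.card_coe, Finset.card_map, Finset.card_univ]
      have h2 := Fintype.card_le_of_embedding P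
      rw [Fintype.card_sum, h1]
      omega)
  choose q hq hq0 using hP
  refine ⟨∏ P, q P, Finset.prod_ne_zero_iff.mpr fun P _ => hq P, fun c w hsurj hw => ?_⟩
  let col : τ → (R → k) := fun t l => eval c (M l t)
  have hspan0 : Submodule.span k (Set.range col) = ⊤ := by
    refine Submodule.eq_top_iff'.mpr fun y => ?_
    obtain ⟨x, hx⟩ := hsurj y
    rw [Submodule.mem_span_range_iff_exists_fun]
    exact ⟨x, funext fun l => by rw [← hx]; simp [col, mul_comm]⟩
  obtain ⟨b, hb, hspan, hind⟩ := exists_linearIndependent k (Set.range col)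
  rw [hspan0] at hspan
  let B : Module.Basis b k (R → k) := Module.Basis.mk hind (by rw [Subtype.range_coe, hspan])
  let eR : R ≃ b := (Pi.basisFun k R).indexEquiv B
  choose sec hsec using fun x : b => hb x.2
  have hsi : Function.Injective sec := fun x y hxy => Subtype.ext (by rw [← hsec x, ← hsec y, hxy])
  let P : R ↪ τ := ⟨fun l => sec (eR l), hsi.comp eR.injective⟩
  have hdet : eval c (A P).det ≠ 0 := by
    rw [RingHom.map_det]
    have hli : LinearIndependent k ((eval c).mapMatrix (A P)).col := by
      have : ((eval c).mapMatrix (A P)).col = fun l => ((eR l : b) : R → k) := funext fun l => by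
        rw [← hsec (eR l)]
        rfl
      rw [this]
      exact hind.comp eR eR.injective
    exact ((Matrix.isUnit_iff_isUnit_det _).mp (Matrix.linearIndependent_cols_iff_isUnit.mp hli)).ne_zero
  set Δ := eval c (A P).det with hΔ
  let z : σ ⊕ F P → k := Sum.elim c fun f => w f.1 * Δ⁻¹
  have hz : ∀ g : MvPolynomial σ k, eval z (rn P g) = eval c g := fun g => by
    simp only [rn, eval_rename]; rfl
  have hsum : ∀ m, ∑ l, eval c (M m (P l)) * w (P l) + ∑ f : F P, eval c (M m f.1) * w f.1 = 0 := by
    intro m
    rw [← hw m, ← Finset.sum_add_sum_compl (Finset.univ.map P), Finset.sum_map]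
    congr 1
    exact (Finset.sum_subtype _ (fun t => Finset.mem_compl) fun t => eval c (M m t) * w t).symm
  have hadj : ∀ l, ∑ m, eval c ((A P).adjugate l m) * ∑ l', eval c (M m (P l')) * w (P l') = Δ * w (P l) := by
    intro l
    simp only [Finset.mul_sum]
    rw [Finset.sum_comm]
    have h1 : ∀ l', ∑ m, eval c ((A P).adjugate l m) * eval c (M m (P l')) = if l = l' then Δ else 0 := fun l' => by
      have := congrArg (eval c) (congrFun (congrFun (Matrix.adjugate_mul (A P)) l) l')
      rw [Matrix.mul_apply, map_sum] at this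
      simp only [map_mul, Matrix.smul_apply, Matrix.one_apply, smul_eq_mul] at this
      refine this.trans ?_
      split_ifs <;> simp [Δ]
    simp only [← mul_assoc, ← Finset.sum_mul, h1]
    simp
  have hp : ∀ t, eval z (p P t) = w t := by
    intro t
    simp only [p]
    split_ifs with ht
    · obtain ⟨-, hl⟩ := (Finset.mem_map.mp ht).choose_spec
      set l := (Finset.mem_map.mp ht).choose
      rw [← hl, map_neg, map_sum]
      simp only [map_mul, map_sum, eval_X, hz]
      refine mul_left_cancel₀ hdet ?_
      rw [← hadj l, mul_neg, Finset.mul_sum, ← Finset.sum_neg_distrib]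
      refine Finset.sum_congr rfl fun m _ => ?_
      rw [show ∑ l', eval c (M m (P l')) * w (P l') = -∑ f : F P, eval c (M m f.1) * w f.1 from
        eq_neg_of_add_eq_zero_left (hsum m)]
      simp only [z, Sum.elim_inr, mul_neg, Finset.mul_sum]
      exact congrArg Neg.neg (Finset.sum_congr rfl fun f _ => by field_simp)
    · rw [map_mul, eval_X, hz, ← hΔ]
      simp only [z, Sum.elim_inr, mul_assoc, inv_mul_cancel₀ hdet, mul_one]
  rw [map_prod, Finset.prod_eq_zero (Finset.mem_univ P)]
  rw [← hq0 P z]
  exact congrArg (fun f => eval f (q P)) (funext fun t => (hp t).symm)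

/-- Genericity from a nonzero polynomial in coordinates of a basis. -/
theorem isGeneric_of_basis [Infinite k] {V : Type u} [AddCommGroup V] [Module k V] {τ : Type*} [Fintype τ]
    (b : Module.Basis τ k V) (S : Set V) (q : MvPolynomial τ k) (hq : q ≠ 0)
    (h : ∀ v, eval (fun t => b.repr v t) q ≠ 0 → v ∈ S) : LefPen.IsGeneric k S := by
  refine ⟨fun v => eval (fun t => b.repr v t) q, ?_, ?_, h⟩
  · clear hq h
    unfold LefPen.IsPolyFun
    induction q using MvPolynomial.induction_on with
    | C a =>
      convert Subalgebra.algebraMap_mem (Algebra.adjoin k (Set.range (fun l : Module.Dual k V => (l : V → k)))) a using 1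
      ext v; simp
    | add p q hp hq => convert add_mem hp hq using 1; ext v; simp
    | mul_X p t hp =>
      convert mul_mem hp (Algebra.subset_adjoin ⟨b.coord t, rfl⟩) using 1
      ext v; simp
  · by_contra hno
    push Not at hno
    refine hq (MvPolynomial.funext fun x => ?_)
    rw [map_zero, ← hno (b.equivFun.symm x)]
    exact congrArg (fun f => eval f q) (funext fun t => congrFun (b.equivFun.apply_symm_apply x).symm t)

end Groth.Agent.FanoGenLib
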